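import Groth.Agent.EGA43.FibDepth.GeomOpen
import Groth.Agent.FlatMorGeneric.Spread

/-! The locus of geometrically reduced fibres is locally constructible. -/

universe u

open CategoryTheory CategoryTheory.Limits AlgebraicGeometry Topology

namespace Groth.Agent.FlatMorGeomRed

set_option backward.isDefEq.respectTransparency false

theorem geometricallyReduced_iff_forall {k : Type u} [Field k] {Z : Scheme.{u}}
    (p : Z ⟶ Spec (CommRingCat.of k)) :
    GeometricallyReduced p ↔ ∀ z, FBase.IsGeomReducedAt p z := by
  constructor
  · intro h z K _ _ x' _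
    haveI : AlgebraicGeometry.IsReduced (FBase.bc p K) :=
      GeometricallyReduced.geometrically_isReduced _ _ _ (IsPullback.of_hasPullback _ _)
    infer_instance
  · intro h
    refine ⟨geometrically_iff_of_isClosedUnderIsomorphisms.2 fun K _ y => ?_⟩
    obtain ⟨φ, rfl⟩ := Spec.map_surjective y
    letI : Algebra k K := φ.hom.toAlgebra
    haveI : ∀ x : ↥(FBase.bc p K), _root_.IsReduced ((FBase.bc p K).presheaf.stalk x) :=
      fun x => h _ K x rfl
    have hr := @isReduced_of_isReduced_stalk (FBase.bc p K) this
    exact hr

variable {X Y : Scheme.{u}} (f : X ⟶ Y)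

theorem isGeomReducedAt_of_asFiber (x : X) (y : Y) (hy : f x = y) (z : f.fiber y)
    (hz : f.fiberι y z = x)
    (h : FBase.IsGeomReducedAt (f.fiberToSpecResidueField (f x)) (f.asFiber x)) :
    FBase.IsGeomReducedAt (f.fiberToSpecResidueField y) z := by
  subst hy
  have : z = f.asFiber x := (f.fiberι _).isEmbedding.injective (hz.trans (f.fiberι_asFiber x).symm)
  rwa [this]

/-- For a quasi-compact morphism locally of finite presentation, the locus of geometrically
reduced fibres is locally constructible. -/
theorem isLocallyConstructible_setOf_geometricallyReduced [LocallyOfFinitePresentation f]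
    [QuasiCompact f] :
    IsLocallyConstructible {y : Y | GeometricallyReduced (f.fiberToSpecResidueField y)} := by
  have hg : IsLocallyConstructible {x : X | EGA43.FibDepth.RkP f 0 (f x) (f.asFiber x) ∧
      _root_.LocCoh.HasSk 1 ((f.fiber (f x)).presheaf.stalk (f.asFiber x))
        ((f.fiber (f x)).presheaf.stalk (f.asFiber x))} :=
    (EGA43.FibDepth.isLocallyConstructible_rkP f 0).inter
      (EGA43.FibDepth.isLocallyConstructible_hasSk f 1)
  convert EGA43.Cons.isLocallyConstructible_compl
    (f.isLocallyConstructible_image (EGA43.Cons.isLocallyConstructible_compl hg)) using 1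
  ext y
  refine (geometricallyReduced_iff_forall (k := Y.residueField y)
    (f.fiberToSpecResidueField y)).trans ?_
  constructor
  · rintro h ⟨x, hx, rfl⟩
    exact hx ((EGA43.FibDepth.isGeomReducedAt_iff f (f x) (f.asFiber x)).1 (h _))
  · intro h z
    by_contra hz
    have hy : f (f.fiberι y z) = y := (f.range_fiberι y).le ⟨z, rfl⟩
    refine h ⟨f.fiberι y z, fun hx => hz ?_, hy⟩
    exact isGeomReducedAt_of_asFiber f _ y hy z rfl
      ((EGA43.FibDepth.isGeomReducedAt_iff f _ _).2 hx)

end Groth.Agent.FlatMorGeomRed
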