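import Mathlib

/-! Geometric properties of schemes over a field descend along field extensions. -/

universe u

open AlgebraicGeometry CategoryTheory Limits MorphismProperty
open scoped TensorProduct

namespace Groth.Agent.FlatMorGeomRed

set_option backward.isDefEq.respectTransparency false

theorem geometrically_of_field_ext {P : ObjectProperty Scheme.{u}} [P.IsClosedUnderIsomorphisms]
    (hP : ∀ {A B : Scheme.{u}} (π : A ⟶ B), Surjective π → Flat π → P A → P B)
    {k k' : Type u} [Field k] [Field k'] (φ : CommRingCat.of k ⟶ CommRingCat.of k') {Z : Scheme.{u}}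
    (p : Z ⟶ Spec (CommRingCat.of k))
    (h : geometrically P (pullback.snd p (Spec.map φ))) : geometrically P p := by
  refine geometrically_iff_of_isClosedUnderIsomorphisms.2 fun K _ y => ?_
  obtain ⟨ψ, rfl⟩ := Spec.map_surjective y
  letI : Algebra k k' := φ.hom.toAlgebra
  letI : Algebra k K := ψ.hom.toAlgebra
  haveI : Nontrivial (k' ⊗[k] K) :=
    Algebra.TensorProduct.nontrivial_of_algebraMap_injective_of_flat_left k k' K
      (RingHom.injective _)
  obtain ⟨M, hM⟩ := Ideal.exists_maximal (k' ⊗[k] K)
  letI : Field ((k' ⊗[k] K) ⧸ M) := Ideal.Quotient.field M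
  let Ω := CommRingCat.of ((k' ⊗[k] K) ⧸ M)
  let a : CommRingCat.of k' ⟶ Ω := CommRingCat.ofHom
    ((Ideal.Quotient.mk M).comp Algebra.TensorProduct.includeLeftRingHom)
  let b : CommRingCat.of K ⟶ Ω := CommRingCat.ofHom
    ((Ideal.Quotient.mk M).comp Algebra.TensorProduct.includeRight.toRingHom)
  have hab : φ ≫ a = ψ ≫ b := by
    ext x
    show Ideal.Quotient.mk M (algebraMap k k' x ⊗ₜ (1 : K)) = Ideal.Quotient.mk M ((1 : k') ⊗ₜ algebraMap k K x)
    congr 1
    rw [Algebra.algebraMap_eq_smul_one, Algebra.algebraMap_eq_smul_one, TensorProduct.smul_tmul]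
  have hbase : Spec.map a ≫ Spec.map φ = Spec.map b ≫ Spec.map ψ := by
    rw [← Spec.map_comp, ← Spec.map_comp, hab]
  -- `Z_Ω` as base change of `Z_{k'}`
  have sq := (IsPullback.of_hasPullback (pullback.snd p (Spec.map φ)) (Spec.map a)).paste_horiz
    (IsPullback.of_hasPullback p (Spec.map φ))
  rw [hbase] at sq
  have hΩ : P (pullback (pullback.snd p (Spec.map φ)) (Spec.map a)) :=
    pullback_of_geometrically h ((k' ⊗[k] K) ⧸ M) (Spec.map a)
  let π : pullback (pullback.snd p (Spec.map φ)) (Spec.map a) ⟶ pullback p (Spec.map ψ) :=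
    pullback.lift (pullback.fst _ _ ≫ pullback.fst p (Spec.map φ))
      (pullback.snd _ _ ≫ Spec.map b) (by rw [sq.w, Category.assoc])
  have hπ : IsPullback π (pullback.snd (pullback.snd p (Spec.map φ)) (Spec.map a))
      (pullback.snd p (Spec.map ψ)) (Spec.map b) := by
    refine IsPullback.of_right ?_ (pullback.lift_snd _ _ _) (IsPullback.of_hasPullback p (Spec.map ψ))
    rw [pullback.lift_fst]
    exact sq
  have hs : Surjective (Spec.map b) := ⟨fun x => ⟨Classical.arbitrary _, Subsingleton.elim (α := PrimeSpectrum K) _ _⟩⟩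
  have hf : Flat (Spec.map b) := inferInstance
  exact hP π (MorphismProperty.of_isPullback hπ.flip hs) (MorphismProperty.of_isPullback hπ.flip hf) hΩ

theorem isReduced_descends {A B : Scheme.{u}} (π : A ⟶ B) (_ : Surjective π) (_ : Flat π)
    [IsReduced A] : IsReduced B := by
  refine @isReduced_of_isReduced_stalk B fun b => ?_
  obtain ⟨a, rfl⟩ := π.surjective b
  refine isReduced_of_injective (π.stalkMap a).hom ?_
  algebraize [(π.stalkMap a).hom]
  haveI : Module.Flat (B.presheaf.stalk (π a)) (A.presheaf.stalk a) := Flat.stalkMap π a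
  haveI : IsLocalHom (algebraMap (B.presheaf.stalk (π a)) (A.presheaf.stalk a)) := π.toLRSHom.prop a
  haveI : Module.FaithfullyFlat (B.presheaf.stalk (π a)) (A.presheaf.stalk a) :=
    Module.FaithfullyFlat.of_flat_of_isLocalHom
  exact FaithfulSMul.algebraMap_injective _ _

theorem irreducibleSpace_descends {A B : Scheme.{u}} (π : A ⟶ B) (hπ : Surjective π) (_ : Flat π)
    [IrreducibleSpace A] : IrreducibleSpace B :=
  haveI : Nonempty B := ⟨π (Classical.arbitrary A)⟩
  { isPreirreducible_univ := by
      rw [← Set.image_univ_of_surjective hπ.surj]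
      exact PreirreducibleSpace.isPreirreducible_univ.image _ π.continuous.continuousOn
    toNonempty := inferInstance }

theorem connectedSpace_descends {A B : Scheme.{u}} (π : A ⟶ B) (hπ : Surjective π) (_ : Flat π)
    [ConnectedSpace A] : ConnectedSpace B :=
  haveI : Nonempty B := ⟨π (Classical.arbitrary A)⟩
  { isPreconnected_univ := by
      rw [← Set.image_univ_of_surjective hπ.surj]
      exact PreconnectedSpace.isPreconnected_univ.image _ π.continuous.continuousOn
    toNonempty := inferInstance }

/-- Geometric properties of fibres are invariant under base change. -/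
theorem geometrically_fiber_iff_baseChange {P : ObjectProperty Scheme.{u}}
    [P.IsClosedUnderIsomorphisms]
    (hP : ∀ {A B : Scheme.{u}} (π : A ⟶ B), Surjective π → Flat π → P A → P B)
    {X X' Y Y' : Scheme.{u}} {g' : X' ⟶ X} {f' : X' ⟶ Y'} {f : X ⟶ Y} {g : Y' ⟶ Y}
    (hc : IsPullback g' f' f g) (y' : Y') :
    geometrically P (f'.fiberToSpecResidueField y') ↔
      geometrically P (f.fiberToSpecResidueField (g y')) := by
  have hsq := isPullback_fiberToSpecResidueField_of_isPullback hc y'
  refine ⟨fun h => ?_, fun h => MorphismProperty.of_isPullback hsq h⟩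
  refine geometrically_of_field_ext hP (k := Y.residueField (g y')) (k' := Y'.residueField y')
    (g.residueFieldMap y') (f.fiberToSpecResidueField (g y')) ?_
  rw [← hsq.isoPullback_inv_snd]
  exact MorphismProperty.cancel_left_of_respectsIso (geometrically P) _ _ |>.2 h

end Groth.Agent.FlatMorGeomRed
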